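import Cfsg.Agent.TC.Kit

set_option autoImplicit false
set_option linter.all false
set_option maxRecDepth 100000

namespace Cfsg.Agent.TC.CxD5

open Cfsg.Agent.M24

noncomputable def row (q : ℕ) : ℕ :=
  Nat.land (Nat.shiftRight (@Bool.rec (fun _ => ℕ) (@Bool.rec (fun _ => ℕ) (nat_lit 0xc001c00000000000000000000013c0b0400100001301900000f000140070200100001340602001000013816000010000008001a0000000000000000000001280a04000f00012c0000001000011c1800000e0001200402000f0001241600000f00000400180000000000000000000001100904000b00010c0604000e0001180000000f0001040c02000c0001001600000d00000800160000000000000000000000e40a04000a0000f81900000c0000e01800000c0000fc0000000e0000f01600000c) (nat_lit 0x1000100000000000000000000000d81a0000090000f40b06000d0000dc0000000d0000ec0906000d0001081600000e00000000120000000000000000000001141a00000e0000cc1002000b0000d00e02000b0000c01700000a0000c40202000900000000100000000000000000000000e81a00000d0000b8190000090000ac0e0200080000a8170000090000bc0000000b000008000c0000000000000000000000d40000000c0000b40700000a0000a0180000070000c81700000b0000a40000000a)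 (Nat.ble q (nat_lit 11))) (@Bool.rec (fun _ => ℕ) (nat_lit 0xc000600000000000000000000008c0b040007000080190000040000b01800000a0000840602000700009410040006000000000a0000000000000000000000901a0000080000741002000500009c00000009000070170000060000881600000800000c00040000000000000000000000640b04000600006019000003000068070200060000981700000800006c0000000700000800060000000000000000000000581a0000040000781900000700004018000004000050170000040000440e040003) (nat_lit 0x40000000000000000000000541306000500007c0000000800003c000000050000381700000300004c0204000500000800020000000000000000000000300a04000300005c0000000600002c18000002000048170000050000340000000400001000000000000000000000000000181a0000010000240b0200020000280000000300001c09020002000020160000020000000000000000000000000000000014000000020000100100000100000c010000010000081700000100000401000001) (Nat.ble q (nat_lit 3))) (Nat.ble q (nat_lit 7))) (Nat.mul (Nat.land q (nat_lit 3)) (nat_lit 392))) (nat_lit 0xffffffffffffffffffffffffffffffffffffffffffffffffffffffffffffffffffffffffffffffffffffffffffffffffff)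

noncomputable def relt_1 (q : ℕ) : ℕ :=
  (@Bool.rec (fun _ => ℕ) (@Bool.rec (fun _ => ℕ) (nat_lit 0x1084202) (nat_lit 0x3) (Nat.ble q (nat_lit 2))) (@Bool.rec (fun _ => ℕ) (nat_lit 0x0) (nat_lit 0x0) (Nat.ble q (nat_lit 0))) (Nat.ble q (nat_lit 1)))

noncomputable def relt_2 (q : ℕ) : ℕ :=
  (@Bool.rec (fun _ => ℕ) (nat_lit 0x8c2308c2304) (@Bool.rec (fun _ => ℕ) (nat_lit 0x18c6302) (nat_lit 0x8822088220882206) (Nat.ble q (nat_lit 4))) (Nat.ble q (nat_lit 5)))

noncomputable def relt_3 (q : ℕ) : ℕ :=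
  (@Bool.rec (fun _ => ℕ) (@Bool.rec (fun _ => ℕ) (nat_lit 0x11044110441104406) (nat_lit 0x90240902404) (Nat.ble q (nat_lit 9))) (@Bool.rec (fun _ => ℕ) (nat_lit 0x2108402) (nat_lit 0x10c4310c4310c4306) (Nat.ble q (nat_lit 7))) (Nat.ble q (nat_lit 8)))

noncomputable def relt_4 (q : ℕ) : ℕ :=
  (@Bool.rec (fun _ => ℕ) (nat_lit 0x1084202) (@Bool.rec (fun _ => ℕ) (nat_lit 0x210842103) (nat_lit 0x190641906404) (Nat.ble q (nat_lit 11))) (Nat.ble q (nat_lit 12)))

noncomputable def relt_5 (q : ℕ) : ℕ :=
  (@Bool.rec (fun _ => ℕ) (@Bool.rec (fun _ => ℕ) (nat_lit 0x18862188621886206) (nat_lit 0x180601806004) (Nat.ble q (nat_lit 16))) (@Bool.rec (fun _ => ℕ) (nat_lit 0x18c6302) (nat_lit 0x10040100401004006) (Nat.ble q (nat_lit 14))) (Nat.ble q (nat_lit 15)))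

noncomputable def relt_6 (q : ℕ) : ℕ :=
  (@Bool.rec (fun _ => ℕ) (nat_lit 0x20882208822088206) (@Bool.rec (fun _ => ℕ) (nat_lit 0x200802008004) (nat_lit 0x2108402) (Nat.ble q (nat_lit 18))) (Nat.ble q (nat_lit 19)))

noncomputable def relt_7 (q : ℕ) : ℕ :=
  (@Bool.rec (fun _ => ℕ) (nat_lit 0x40102) (@Bool.rec (fun _ => ℕ) (nat_lit 0x802002) (nat_lit 0x20c8320c8304) (Nat.ble q (nat_lit 21))) (Nat.ble q (nat_lit 22)))

noncomputable def relt_8 (q : ℕ) : ℕ :=
  (@Bool.rec (fun _ => ℕ) (nat_lit 0x2108402) (@Bool.rec (fun _ => ℕ) (nat_lit 0x18c6302) (nat_lit 0x1084202) (Nat.ble q (nat_lit 24))) (Nat.ble q (nat_lit 25)))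

noncomputable def rel (q : ℕ) : ℕ :=
  (@Bool.rec (fun _ => ℕ) (@Bool.rec (fun _ => ℕ) (@Bool.rec (fun _ => ℕ) (relt_8 q) (relt_7 q) (Nat.ble q (nat_lit 23))) (@Bool.rec (fun _ => ℕ) (relt_6 q) (relt_5 q) (Nat.ble q (nat_lit 17))) (Nat.ble q (nat_lit 20))) (@Bool.rec (fun _ => ℕ) (@Bool.rec (fun _ => ℕ) (relt_4 q) (relt_3 q) (Nat.ble q (nat_lit 10))) (@Bool.rec (fun _ => ℕ) (relt_2 q) (relt_1 q) (Nat.ble q (nat_lit 3))) (Nat.ble q (nat_lit 6))) (Nat.ble q (nat_lit 13)))

/-- inverse letters -/
noncomputable def iv : ℕ → ℕ := lget [1, 0, 2, 3, 4] 0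

/-- the relators -/
def base : List (List ℕ) :=
  [[0, 0, 0],
   [2, 2],
   [2, 1, 2, 1, 2, 1],
   [3, 3],
   [3, 1, 3, 1],
   [3, 2, 3, 2, 3, 2],
   [4, 4],
   [4, 1, 4, 1],
   [4, 2, 4, 2, 4, 2],
   [4, 3, 4, 3]]

noncomputable def chk : ℕ → Bool := chkRow row rel (nat_lit 5) (nat_lit 16) (nat_lit 27) (nat_lit 15) (nat_lit 1)

theorem b0 : ball chk (nat_lit 4) (nat_lit 0) = true := by decide +kernel

theorem rel_ok : relChk rel (allW iv 5 base) 2 = true := by decide +kernel

theorem len_ok : 2 + (allW iv 5 base).length = 27 := by decide +kernel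

theorem live_ok : bsum (fun c => b2n (live row 5 16 c)) 4 0 = 16 := by decide +kernel

theorem blk : ∀ j, j < 1 → ball chk 4 j = true
  | 0, _ => b0
  | n + 1, h => absurd h (by omega)

theorem cert : Cert 5 iv base 15 16 :=
  ⟨⟨row, rel, 16, 1, by decide, by decide, rel_ok, by decide +kernel,
    len_ok ▸ rows_of_blocks (f := chk) (M := 16) (fun c h => chkRow_of_le c h) 1 (by decide) blk,
    live_card (by decide) live_ok⟩⟩

end Cfsg.Agent.TC.CxD5
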